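import Mathlib.RingTheory.PowerSeries.Order
import Mathlib.RingTheory.PowerSeries.Inverse
import Mathlib.RingTheory.Nakayama
import Mathlib.RingTheory.Finiteness.Basic
import Mathlib.LinearAlgebra.Dimension.Finrank
import Mathlib.LinearAlgebra.FiniteDimensional.Basic
import Mathlib.RingTheory.Adjoin.Basic
import Mathlib.Data.Set.Card

/-!
# Value sets of lattices in `k[[t]]`
-/

universe u

open PowerSeries

namespace Groth.Agent.TFSemigroup.PSeries

variable {k : Type u} [Field k]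

theorem X_pow_dvd_iff_le (f : PowerSeries k) (n : ℕ) : (X : PowerSeries k) ^ n ∣ f ↔ (n : ℕ∞) ≤ f.order := by
  rw [PowerSeries.X_pow_dvd_iff]
  exact ⟨fun h => nat_le_order f n h, fun h m hm => coeff_of_lt_order m (lt_of_lt_of_le (by exact_mod_cast hm) h)⟩

theorem exists_unit (f : PowerSeries k) (n : ℕ) (h : f.order = n) :
    ∃ v : PowerSeries k, constantCoeff v ≠ 0 ∧ f = X ^ n * v := by
  obtain ⟨v, hv⟩ := (X_pow_dvd_iff_le f n).mpr h.ge
  refine ⟨v, fun h0 => ?_, hv⟩
  obtain ⟨w, hw⟩ := PowerSeries.X_dvd_iff.mpr h0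
  have h1 : X ^ (n + 1) ∣ f := ⟨w, by rw [hv, hw, pow_succ, mul_assoc]⟩
  have h2 := (X_pow_dvd_iff_le f (n + 1)).mp h1
  rw [h] at h2
  norm_cast at h2
  omega

theorem order_unit_mul (n : ℕ) (v : PowerSeries k) (hv : constantCoeff v ≠ 0) :
    order ((X : PowerSeries k) ^ n * v) = (n : ℕ∞) := by
  rw [order_eq_nat]
  refine ⟨?_, fun i hi => ?_⟩
  · rw [coeff_X_pow_mul', if_pos le_rfl, Nat.sub_self, coeff_zero_eq_constantCoeff_apply]
    exact hv
  · rw [coeff_X_pow_mul', if_neg (by omega)]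

theorem exists_nat_order (f : PowerSeries k) (hf : f ≠ 0) : ∃ n : ℕ, f.order = n :=
  ⟨f.order.toNat, (coe_toNat_order hf).symm⟩

/-- Killing the leading coefficient. -/
theorem exists_smul_sub (f g : PowerSeries k) (m : ℕ) (hf : X ^ m ∣ f) (hg : g.order = m) :
    ∃ r : k, X ^ (m + 1) ∣ f - r • g := by
  obtain ⟨w, rfl⟩ := hf
  obtain ⟨v, hv, rfl⟩ := exists_unit g m hg
  refine ⟨constantCoeff w / constantCoeff v, ?_⟩
  obtain ⟨z, hz⟩ : X ∣ w - (constantCoeff w / constantCoeff v) • v := by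
    rw [X_dvd_iff, map_sub, smul_eq_C_mul, map_mul, constantCoeff_C, div_mul_cancel₀ _ hv, sub_self]
  exact ⟨z, by rw [pow_succ, mul_assoc, ← hz, mul_sub, mul_smul_comm]⟩

variable (A : Subalgebra k (PowerSeries k))

theorem exists_mem_order_pos [Module.Finite ↥A (PowerSeries k)] :
    ∃ a ∈ A, ∃ e : ℕ, 0 < e ∧ a.order = e := by
  by_contra h
  have hbot : ∀ a ∈ A, a = algebraMap k _ (constantCoeff a) := by
    intro a ha
    by_contra hne
    obtain ⟨n, hn⟩ := exists_nat_order _ (sub_ne_zero.mpr hne)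
    refine h ⟨_, A.sub_mem ha (A.algebraMap_mem _), n, Nat.pos_of_ne_zero fun h0 => ?_, hn⟩
    subst h0
    obtain ⟨v, hv, he⟩ := exists_unit _ 0 hn
    apply hv
    rw [pow_zero, one_mul] at he
    rw [← he, map_sub, sub_eq_zero]
    exact (constantCoeff_C _).symm
  have : Module.Finite k ↥A := Module.Finite.of_surjective (Algebra.linearMap k ↥A) fun x =>
    ⟨constantCoeff (x : PowerSeries k), Subtype.ext (hbot _ x.2).symm⟩
  have : Module.Finite k (PowerSeries k) := Module.Finite.trans ↥A _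
  have hli : LinearIndependent k (fun i : Fin (Module.finrank k (PowerSeries k) + 1) => (X : PowerSeries k) ^ (i : ℕ)) := by
    rw [Fintype.linearIndependent_iff]
    intro g hg i
    have := congrArg (coeff (i : ℕ)) hg
    rw [map_sum, Finset.sum_eq_single i] at this
    · simpa using this
    · intro j _ hj
      rw [map_smul, coeff_X_pow, if_neg fun h : (i : ℕ) = j => hj (Fin.ext h).symm, smul_zero]
    · simp
  have := hli.fintype_card_le_finrank
  simp at this

variable {A}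

theorem mem_jacobson (hcl : ∀ f : PowerSeries k, (∀ n : ℕ, ∃ g ∈ A, (n : ℕ∞) ≤ order (f - g)) → f ∈ A)
    {a : ↥A} (ha : X ∣ (a : PowerSeries k)) : a ∈ Ideal.jacobson (⊥ : Ideal ↥A) := by
  rw [Ideal.mem_jacobson_bot]
  intro y
  obtain ⟨w, hw⟩ := ha
  let x : PowerSeries k := (a : PowerSeries k) * (y : PowerSeries k)
  have hu : IsUnit (x + 1) := by
    rw [isUnit_iff_constantCoeff]
    simp [x, hw]
  obtain ⟨u, hu'⟩ := hu
  have hinv : (↑u⁻¹ : PowerSeries k) ∈ A := hcl _ fun n => by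
    refine ⟨∑ i ∈ Finset.range n, (-x) ^ i,
      A.sum_mem fun i _ => A.pow_mem (A.neg_mem (A.mul_mem a.2 y.2)) i, ?_⟩
    rw [← X_pow_dvd_iff_le]
    have h1 : (↑u⁻¹ : PowerSeries k) - ∑ i ∈ Finset.range n, (-x) ^ i = ↑u⁻¹ * (-x) ^ n := by
      apply u.isUnit.mul_left_cancel
      rw [mul_sub, ← mul_assoc, Units.mul_inv, one_mul, hu', show x + 1 = 1 - (-x) by ring,
        mul_neg_geom_sum]
      ring
    rw [h1]
    have h2 : X ∣ -x := dvd_neg.mpr ⟨w * (y : PowerSeries k), by simp [x, hw, mul_assoc]⟩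
    exact (pow_dvd_pow_of_dvd h2 n).mul_left _
  refine IsUnit.of_mul_eq_one (b := ⟨_, hinv⟩) (Subtype.ext ?_)
  show (x + 1) * ↑u⁻¹ = 1
  rw [← hu', Units.mul_inv]

/-- A lattice whose value set contains `[c', ∞)` contains all series of order `≥ c'`. -/
theorem mem_of_dvd (hA : Module.Finite ↥A (PowerSeries k))
    (hcl : ∀ f : PowerSeries k, (∀ n : ℕ, ∃ g ∈ A, (n : ℕ∞) ≤ order (f - g)) → f ∈ A)
    (N : Submodule ↥A (PowerSeries k)) (c' : ℕ) (h : ∀ n, c' ≤ n → ∃ f ∈ N, order f = (n : ℕ∞))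
    {f : PowerSeries k} (hf : X ^ c' ∣ f) : f ∈ N := by
  obtain ⟨a, ha, e, he, hae⟩ := exists_mem_order_pos A
  obtain ⟨v, hv, hav⟩ := exists_unit a e hae
  let L : PowerSeries k →ₗ[↥A] PowerSeries k :=
    (LinearMap.mulLeft (PowerSeries k) ((X : PowerSeries k) ^ c')).restrictScalars ↥A
  have hfg : (LinearMap.range L).FG := by
    rw [LinearMap.range_eq_map]
    exact Module.Finite.fg_top.map L
  refine Submodule.le_of_le_smul_of_le_jacobson_bot (I := Ideal.span {(⟨a, ha⟩ : ↥A)}) hfg ?_ ?_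
    ⟨hf.choose, hf.choose_spec.symm⟩
  · rw [Ideal.span_le, Set.singleton_subset_iff]
    exact mem_jacobson hcl (a := ⟨a, ha⟩) ((dvd_pow_self X (by omega)).trans ⟨v, hav⟩)
  · rintro _ ⟨z, rfl⟩
    have step : ∀ j, ∃ g ∈ N, X ^ (c' + j) ∣ L z - g := by
      intro j
      induction j with
      | zero => exact ⟨0, N.zero_mem, by rw [sub_zero, add_zero]; exact ⟨z, rfl⟩⟩
      | succ j ih =>
        obtain ⟨g, hg, hdvd⟩ := ih
        obtain ⟨m, hm, hmo⟩ := h (c' + j) (by omega)
        obtain ⟨r, hr⟩ := exists_smul_sub _ m _ hdvd hmo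
        exact ⟨g + r • m, N.add_mem hg (N.smul_of_tower_mem r hm), by rwa [← sub_sub]⟩
    obtain ⟨g, hg, w, hw⟩ := step e
    refine Submodule.mem_sup.mpr ⟨g, hg, L z - g, ?_, by abel⟩
    obtain ⟨v', rfl⟩ := (isUnit_iff_constantCoeff.mpr (isUnit_iff_ne_zero.mpr hv) : IsUnit v)
    have : L z - g = (⟨a, ha⟩ : ↥A) • L ((↑v'⁻¹ : PowerSeries k) * w) := by
      show _ = a * (X ^ c' * ((↑v'⁻¹ : PowerSeries k) * w))
      rw [hw, hav, pow_add]
      linear_combination -(X ^ e * X ^ c' * w) * (Units.mul_inv v')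
    rw [this]
    exact Submodule.smul_mem_smul (Ideal.mem_span_singleton_self _) ⟨_, rfl⟩

/-- The value set is cofinite if `k[[t]]` is birational over `A`. -/
theorem exists_pow_mem (hA : Module.Finite ↥A (PowerSeries k))
    (hbir : ∀ f : PowerSeries k, ∃ a ∈ A, a ≠ 0 ∧ a * f ∈ A) :
    ∃ c : ℕ, ∀ f : PowerSeries k, X ^ c ∣ f → f ∈ A := by
  classical
  obtain ⟨s, hs⟩ := hA.fg_top
  choose a ha ha0 hmem using hbir
  let b : ↥A := ∏ g ∈ s, ⟨a g, ha g⟩
  have hb : (b : PowerSeries k) ≠ 0 := by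
    simp only [b, SubmonoidClass.coe_finsetProd]
    exact Finset.prod_ne_zero_iff.mpr fun g _ => ha0 g
  have hall : ∀ f : PowerSeries k, (b : PowerSeries k) * f ∈ A := by
    intro f
    have hf : f ∈ Submodule.span ↥A (s : Set (PowerSeries k)) := hs.symm ▸ Submodule.mem_top
    induction hf using Submodule.span_induction with
    | mem g hg =>
      obtain ⟨t, ht⟩ := Finset.dvd_prod_of_mem (fun g => (⟨a g, ha g⟩ : ↥A)) hg
      rw [show b = (⟨a g, ha g⟩ : ↥A) * t from ht]
      show a g * (t : PowerSeries k) * g ∈ A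
      rw [mul_right_comm]
      exact A.mul_mem (hmem g) t.2
    | zero => simp
    | add x y _ _ hx hy => rw [mul_add]; exact A.add_mem hx hy
    | smul r x _ hx =>
      show (b : PowerSeries k) * ((r : PowerSeries k) * x) ∈ A
      rw [mul_left_comm]
      exact A.mul_mem r.2 hx
  obtain ⟨n, hn⟩ := exists_nat_order _ hb
  obtain ⟨v, hv, hbv⟩ := exists_unit _ n hn
  refine ⟨n, fun f ⟨w, hw⟩ => ?_⟩
  obtain ⟨v', rfl⟩ := (isUnit_iff_constantCoeff.mpr (isUnit_iff_ne_zero.mpr hv) : IsUnit v)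
  have := hall (↑v'⁻¹ * w)
  rwa [hbv, show X ^ n * (v' : PowerSeries k) * (↑v'⁻¹ * w) = X ^ n * w by
    rw [← mul_assoc, mul_assoc (X ^ n), Units.mul_inv, mul_one], ← hw] at this

/-- The codimension of a lattice is the number of gaps of its value set. -/
theorem finrank_quotient (N : Submodule k (PowerSeries k)) (c : ℕ)
    (hc : ∀ f : PowerSeries k, X ^ c ∣ f → f ∈ N) (V : Set ℕ) (hV : ∀ n, n ∈ V ↔ ∃ f ∈ N, order f = (n : ℕ∞)) :
    Vᶜ.Finite ∧ Module.finrank k (PowerSeries k ⧸ N) = Vᶜ.ncard := by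
  classical
  have hfin : Vᶜ.Finite := (Set.finite_Iio c).subset fun n hn => Set.mem_Iio.mpr (not_le.mp fun h =>
    hn ((hV n).mpr ⟨X ^ n, hc _ (pow_dvd_pow X h), order_X_pow n⟩))
  refine ⟨hfin, ?_⟩
  let G := hfin.toFinset
  let Φ : ((↑G : Set ℕ) → k) →ₗ[k] PowerSeries k ⧸ N :=
    N.mkQ ∘ₗ Fintype.linearCombination k (fun g : (↑G : Set ℕ) => (X : PowerSeries k) ^ (g : ℕ))
  have hcoeff : ∀ (x : (↑G : Set ℕ) → k) (n : ℕ),
      coeff n (Fintype.linearCombination k (fun g : (↑G : Set ℕ) => (X : PowerSeries k) ^ (g : ℕ)) x) =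
        if h : n ∈ (↑G : Set ℕ) then x ⟨n, h⟩ else 0 := by
    intro x n
    rw [Fintype.linearCombination_apply, map_sum]
    split_ifs with h
    · rw [Finset.sum_eq_single ⟨n, h⟩]
      · simp
      · intro g _ hg
        rw [map_smul, coeff_X_pow, if_neg fun h' : n = (g : ℕ) => hg (Subtype.ext h'.symm), smul_zero]
      · simp
    · refine Finset.sum_eq_zero fun g _ => ?_
      rw [map_smul, coeff_X_pow, if_neg fun h' : n = (g : ℕ) => h (h' ▸ g.2), smul_zero]
  have hinj : Function.Injective Φ := by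
    rw [injective_iff_map_eq_zero]
    intro x hx
    have hx' : Fintype.linearCombination k (fun g : (↑G : Set ℕ) => (X : PowerSeries k) ^ (g : ℕ)) x ∈ N :=
      (Submodule.Quotient.mk_eq_zero N).mp hx
    by_contra hne
    have h0 : Fintype.linearCombination k (fun g : (↑G : Set ℕ) => (X : PowerSeries k) ^ (g : ℕ)) x ≠ 0 :=
      fun h => hne (funext fun g => by
        have h2 := hcoeff x g
        rw [h, map_zero, dif_pos g.2] at h2
        exact h2.symm)
    obtain ⟨n, hn⟩ := exists_nat_order _ h0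
    have h1 := (order_eq_nat.mp hn).1
    rw [hcoeff] at h1
    split_ifs at h1 with h
    · exact (hfin.mem_toFinset.mp h) ((hV n).mpr ⟨_, hx', hn⟩)
    · exact h1 rfl
  have hsurj : Function.Surjective Φ := by
    have key : ∀ j f, X ^ (c - j) ∣ f → N.mkQ f ∈ LinearMap.range Φ := by
      intro j
      induction j with
      | zero =>
        intro f hf
        exact ⟨0, by rw [map_zero, Submodule.mkQ_apply, eq_comm, Submodule.Quotient.mk_eq_zero]; exact hc f hf⟩
      | succ j ih =>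
        intro f hf
        by_cases hj : c ≤ j
        · exact ih f (by rwa [show c - j = c - (j + 1) by omega])
        have e : c - j = c - (j + 1) + 1 := by omega
        by_cases hm : c - (j + 1) ∈ V
        · obtain ⟨g, hg, hgo⟩ := (hV _).mp hm
          obtain ⟨r, hr⟩ := exists_smul_sub f g _ hf hgo
          have := ih _ (e ▸ hr)
          rwa [map_sub, map_smul, show N.mkQ g = 0 from (Submodule.Quotient.mk_eq_zero N).mpr hg,
            smul_zero, sub_zero] at this
        · obtain ⟨r, hr⟩ := exists_smul_sub f (X ^ (c - (j + 1))) _ hf (order_X_pow _)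
          obtain ⟨x, hx⟩ := ih _ (e ▸ hr)
          have hmG : c - (j + 1) ∈ (↑G : Set ℕ) := hfin.mem_toFinset.mpr hm
          refine ⟨x + Pi.single ⟨_, hmG⟩ r, ?_⟩
          rw [map_add, hx]
          simp [Φ, Fintype.linearCombination_apply_single]
    intro q
    obtain ⟨f, rfl⟩ := N.mkQ_surjective q
    exact key c f (by rw [Nat.sub_self, pow_zero]; exact one_dvd _)
  rw [← (LinearEquiv.ofBijective Φ ⟨hinj, hsurj⟩).finrank_eq, Module.finrank_pi,
    Set.ncard_eq_toFinset_card _ hfin]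
  simp [G]

end Groth.Agent.TFSemigroup.PSeries
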