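import Mathlib.Algebra.Group.Submonoid.Membership
import Mathlib.Algebra.Group.Submonoid.BigOperators
import Mathlib.Data.Finset.Card
import Mathlib.Data.Nat.Nth
import Mathlib.Data.Set.Card
import Mathlib.Data.Nat.ModEq
import Mathlib.Tactic.Ring
import Mathlib.Tactic.Linarith
import Mathlib.Data.Finset.Image
import Mathlib.Data.Finset.Insert
import Mathlib.Algebra.Order.Group.Nat
import Mathlib.Order.Interval.Finset.Nat

/-!
# Numerical semigroups and their modules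
-/

namespace Groth.Agent.TFSemigroup

theorem add_mul_mem {Γ : AddSubmonoid ℕ} {e a : ℕ} (he : e ∈ Γ) (ha : a ∈ Γ) : ∀ j : ℕ, a + j * e ∈ Γ
  | 0 => by simpa
  | j + 1 => by
    rw [show a + (j + 1) * e = (a + j * e) + e by ring]
    exact add_mem (add_mul_mem he ha j) he

theorem exists_add_mul {x y e : ℕ} (h : x % e = y % e) (hxy : x ≤ y) : ∃ j, y = x + j * e := by
  obtain ⟨j, hj⟩ := (Nat.modEq_iff_dvd' hxy).mp h
  exact ⟨j, by rw [mul_comm j e, ← hj]; omega⟩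

theorem modEq_ne_of_lt {x y e : ℕ} (h : x % e = y % e) (hxy : x < y) :
    ∃ j, y = x + (j + 1) * e := by
  obtain ⟨j, hj⟩ := exists_add_mul h hxy.le
  cases j with
  | zero => omega
  | succ j => exact ⟨j, hj⟩

variable (Γ : AddSubmonoid ℕ) (c e : ℕ)

/-- The least element of `Γ` in a residue class modulo `e`. -/
theorem exists_least (hc : ∀ n, c ≤ n → n ∈ Γ) (he0 : e ≠ 0) (r : ℕ) (hr : r < e) :
    ∃ w, w ∈ Γ ∧ w % e = r ∧ ∀ x, x ∈ Γ → x % e = r → w ≤ x := by
  classical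
  have h : ∃ w, w ∈ Γ ∧ w % e = r := ⟨r + c * e, hc _ (by
    have := Nat.le_mul_of_pos_right c (Nat.pos_of_ne_zero he0)
    omega), by rw [Nat.add_mul_mod_self_right, Nat.mod_eq_of_lt hr]⟩
  exact ⟨Nat.find h, (Nat.find_spec h).1, (Nat.find_spec h).2, fun x h1 h2 => Nat.find_min' h ⟨h1, h2⟩⟩

variable {Γ c e}

/-- The key decomposition of `c - 1 + e` for a symmetric semigroup. -/
theorem apery_complement (hsymm : ∀ x, x < c → (x ∉ Γ ↔ c - 1 - x ∈ Γ)) (hc : ∀ n, c ≤ n → n ∈ Γ)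
    (hc0 : c ≠ 0) (he0 : e ≠ 0) (hemin : ∀ γ, γ ∈ Γ → γ ≠ 0 → e ≤ γ) {w : ℕ}
    (hw : w ∈ Γ) (hmin : ∀ x, x ∈ Γ → x % e = w % e → w ≤ x) (h0 : w % e ≠ 0)
    (h1 : w % e ≠ (c - 1) % e) :
    ∃ w', w' ∈ Γ ∧ c - 1 + e = w + w' ∧ w' % e ≠ (c - 1) % e ∧ w' ≠ 0 := by
  have hwe : e ≤ w := hemin w hw (fun h => h0 (by simp [h]))
  have hgap : w - e ∉ Γ := fun h => by
    have h2 := hmin _ h (Nat.mod_eq_sub_mod hwe).symm
    omega
  have hlt : w - e < c := by
    by_contra h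
    exact hgap (hc _ (by omega))
  have hmem := (hsymm _ hlt).mp hgap
  have hsum : c - 1 + e = w + (c - 1 - (w - e)) := by omega
  refine ⟨c - 1 - (w - e), hmem, hsum, fun h => ?_, fun h => ?_⟩
  · apply h0
    have h2 : (c - 1 + e) % e = (w + (c - 1 - (w - e))) % e := by rw [← hsum]
    rw [Nat.add_mod_right, Nat.add_mod, h, ← Nat.add_mod, eq_comm] at h2
    have h3 : (c - 1 + w) % e = (c - 1 + 0) % e := by rw [add_comm, h2, add_zero]
    have h4 : w % e = 0 % e := Nat.ModEq.add_left_cancel' (c - 1) h3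
    exact h4.trans (Nat.zero_mod e)
  · apply h1
    rw [h, add_zero] at hsum
    rw [← hsum, Nat.add_mod_right]

open scoped Classical in
theorem count_eq_ncard (S : Set ℕ) (n : ℕ) : Nat.count (fun m => m ∈ S) n = (S ∩ Set.Iio n).ncard := by
  rw [Nat.count_eq_card_filter_range, ← Set.ncard_coe_finset]
  congr 1
  ext x
  simp [and_comm]

open scoped Classical in
theorem compl_ncard_add_count (S : Set ℕ) (cS : ℕ) (h : ∀ n, cS ≤ n → n ∈ S) :
    Sᶜ.ncard + Nat.count (fun m => m ∈ S) cS = cS := by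
  have hd : Disjoint Sᶜ (S ∩ Set.Iio cS) := Set.disjoint_left.mpr fun x hx hx' => hx hx'.1
  have hf : Sᶜ.Finite := (Set.finite_Iio cS).subset fun x (hx : x ∉ S) =>
    Set.mem_Iio.mpr (not_le.mp fun h' => hx (h x h'))
  rw [count_eq_ncard, ← Set.ncard_union_eq hd hf ((Set.finite_Iio cS).subset Set.inter_subset_right)]
  have : Sᶜ ∪ S ∩ Set.Iio cS = Set.Iio cS := by
    ext x
    simp only [Set.mem_union, Set.mem_compl_iff, Set.mem_inter_iff, Set.mem_Iio]
    refine ⟨fun h' => ?_, fun h' => by tauto⟩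
    rcases h' with h' | h'
    · exact not_le.mp fun h'' => h' (h x h'')
    · exact h'.2
  rw [this, ← Finset.coe_Iio, Set.ncard_coe_finset, Nat.card_Iio]

theorem infinite_of_ge (S : Set ℕ) (cS : ℕ) (h : ∀ n, cS ≤ n → n ∈ S) : {m | m ∈ S}.Infinite :=
  Set.infinite_of_forall_exists_gt fun a => ⟨a + cS + 1, h _ (by omega), by omega⟩

end Groth.Agent.TFSemigroup
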