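import Groth.Agent.TFSemigroup.Monomial

/-!
# `Ext¹` of monomial modules over monomial semigroup rings
-/

universe u

open CategoryTheory PowerSeries

namespace Groth.Agent.TFSemigroup.MonoExt

variable {k : Type u} [Field k] {Γ : AddSubmonoid ℕ} {A : Subalgebra k (PowerSeries k)}

theorem closed (hA : ∀ f : PowerSeries k, f ∈ A ↔ ∀ n : ℕ, coeff n f ≠ 0 → n ∈ Γ) (f : PowerSeries k)
    (h : ∀ n : ℕ, ∃ g ∈ A, (n : ℕ∞) ≤ order (f - g)) : f ∈ A := (hA f).mpr fun n hn => by
  obtain ⟨g, hg, hg'⟩ := h (n + 1)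
  have h1 : coeff n (f - g) = 0 := coeff_of_lt_order n (lt_of_lt_of_le (by exact_mod_cast n.lt_succ_self) hg')
  rw [map_sub, sub_eq_zero] at h1
  exact (hA g).mp hg n (h1 ▸ hn)

theorem hloc (hA : ∀ f : PowerSeries k, f ∈ A ↔ ∀ n : ℕ, coeff n f ≠ 0 → n ∈ Γ) (a : ↥A) :
    ∃ c : k, a - algebraMap k ↥A c ∈ Ideal.jacobson (⊥ : Ideal ↥A) :=
  ⟨constantCoeff (a : PowerSeries k), PSeries.mem_jacobson (closed hA) (PowerSeries.X_dvd_iff.mpr (by
    show constantCoeff ((a : PowerSeries k) - algebraMap k (PowerSeries k) _) = 0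
    rw [map_sub, sub_eq_zero]
    exact (constantCoeff_C _).symm))⟩

theorem X_pow_mem (hA : ∀ f : PowerSeries k, f ∈ A ↔ ∀ n : ℕ, coeff n f ≠ 0 → n ∈ Γ) {b : ℕ} (hb : b ∈ Γ) :
    (X : PowerSeries k) ^ b ∈ A := (hA _).mpr fun n hn => by
  rw [coeff_X_pow] at hn
  split_ifs at hn with h
  · exact h ▸ hb
  · exact absurd rfl hn

/-- Monomial modules. -/
theorem mem_span_iff (hA : ∀ f : PowerSeries k, f ∈ A ↔ ∀ n : ℕ, coeff n f ≠ 0 → n ∈ Γ)
    {ι : Type} [Fintype ι] [LinearOrder ι] (e : ι → ℕ) (f : PowerSeries k) :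
    f ∈ Submodule.span ↥A (Set.range fun j => (X : PowerSeries k) ^ e j) ↔
      ∀ q, coeff q f ≠ 0 → ∃ j, e j ≤ q ∧ q - e j ∈ Γ := by
  classical
  constructor
  · intro hf
    induction hf using Submodule.span_induction with
    | mem g hg =>
      obtain ⟨j, rfl⟩ := hg
      intro q hq
      rw [coeff_X_pow] at hq
      split_ifs at hq with h
      · exact ⟨j, h.ge, by simp [h]⟩
      · exact absurd rfl hq
    | zero => simp
    | add x y _ _ hx hy =>
      intro q hq
      by_cases h : coeff q x = 0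
      · exact hy q (by simpa [h] using hq)
      · exact hx q h
    | smul a x _ hx =>
      intro q hq
      change coeff q ((a : PowerSeries k) * x) ≠ 0 at hq
      rw [coeff_mul] at hq
      obtain ⟨⟨s, t⟩, hst, hne⟩ := Finset.exists_ne_zero_of_sum_ne_zero hq
      rw [Finset.mem_antidiagonal] at hst
      simp only [ne_eq, mul_eq_zero, not_or] at hne
      obtain ⟨j, hj, hj'⟩ := hx t hne.2
      refine ⟨j, by simp only at hst; omega, ?_⟩
      rw [show q - e j = s + (t - e j) by simp only at hst; omega]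
      exact add_mem ((hA _).mp a.2 s hne.1) hj'
  · intro h
    let good : ℕ → ι → Prop := fun q j => (e j ≤ q ∧ q - e j ∈ Γ) ∧ ∀ l, l < j → ¬ (e l ≤ q ∧ q - e l ∈ Γ)
    let a : ι → PowerSeries k := fun j => mk fun s => if good (s + e j) j then coeff (s + e j) f else 0
    have ha : ∀ j, a j ∈ A := fun j => (hA _).mpr fun s hs => by
      rw [coeff_mk] at hs
      split_ifs at hs with hg
      · simpa using hg.1.2
      · exact absurd rfl hs
    have hterm : ∀ q j, coeff q (a j * X ^ e j) = if good q j then coeff q f else 0 := by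
      intro q j
      rw [coeff_mul_X_pow']
      split_ifs with h1 h2 h2
      · rw [coeff_mk, Nat.sub_add_cancel h1, if_pos h2]
      · rw [coeff_mk, Nat.sub_add_cancel h1, if_neg h2]
      · exact absurd h2.1.1 h1
      · rfl
    have hf : f = ∑ j, a j * X ^ e j := by
      ext q
      rw [map_sum]
      simp only [hterm]
      by_cases hq : coeff q f = 0
      · simp [hq]
      obtain ⟨j₀, hj₀⟩ := h q hq
      let S := Finset.univ.filter fun j => e j ≤ q ∧ q - e j ∈ Γ
      have hS : S.Nonempty := ⟨j₀, Finset.mem_filter.mpr ⟨Finset.mem_univ _, hj₀⟩⟩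
      have hmin := (Finset.mem_filter.mp (S.min'_mem hS)).2
      rw [Finset.sum_eq_single (S.min' hS), if_pos]
      · exact ⟨hmin, fun l hl h' => absurd (S.min'_le l (Finset.mem_filter.mpr ⟨Finset.mem_univ _, h'⟩)) (not_le.mpr hl)⟩
      · intro j _ hj
        rw [if_neg]
        intro hg
        rcases lt_trichotomy j (S.min' hS) with h' | h' | h'
        · exact absurd (S.min'_le j (Finset.mem_filter.mpr ⟨Finset.mem_univ _, hg.1⟩)) (not_le.mpr h')
        · exact hj h'
        · exact hg.2 _ h' hmin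
      · simp
    rw [hf]
    exact Submodule.sum_mem _ fun j _ =>
      Submodule.smul_mem _ (⟨a j, ha j⟩ : ↥A) (Submodule.subset_span ⟨j, rfl⟩)

theorem span_pair_eq (m : ℕ) :
    Submodule.span ↥A ({1, (X : PowerSeries k) ^ m} : Set (PowerSeries k)) =
      Submodule.span ↥A (Set.range fun j : Fin 2 => (X : PowerSeries k) ^ (![0, m] j)) := by
  congr 1
  ext y
  simp only [Set.mem_insert_iff, Set.mem_singleton_iff, Set.mem_range, Fin.exists_fin_two, Matrix.cons_val_zero,
    Matrix.cons_val_one, pow_zero, eq_comm (b := y)]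

theorem mem_span_pair_iff (hA : ∀ f : PowerSeries k, f ∈ A ↔ ∀ n : ℕ, coeff n f ≠ 0 → n ∈ Γ) (m : ℕ)
    (f : PowerSeries k) : f ∈ Submodule.span ↥A ({1, (X : PowerSeries k) ^ m} : Set (PowerSeries k)) ↔
      ∀ q, coeff q f ≠ 0 → q ∈ Γ ∨ (m ≤ q ∧ q - m ∈ Γ) := by
  rw [span_pair_eq, mem_span_iff hA]
  simp [Fin.exists_fin_two]

/-- `Ext¹(⟨1, t^m⟩, N)` for monomial `N`. -/
theorem length_ext_two (hA : ∀ f : PowerSeries k, f ∈ A ↔ ∀ n : ℕ, coeff n f ≠ 0 → n ∈ Γ) (c m : ℕ)
    (hc : ∀ n, c ≤ n → n ∈ Γ) (N : Submodule ↥A (PowerSeries k)) (SN : Set ℕ)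
    (hN : ∀ f, f ∈ N ↔ ∀ q, coeff q f ≠ 0 → q ∈ SN) (D : Finset ℕ)
    (hD : ∀ q, q ∈ D ↔ (∀ b, b ∈ Γ → b + m ∈ Γ → c ≤ b + q ∧ b + q - c ∈ SN) ∧
      ¬(c ≤ q ∧ (q - c ∈ SN ∨ (m ≤ q - c ∧ q - c - m ∈ SN)))) :
    Module.length ↥A (Abelian.Ext (ModuleCat.of ↥A ↥(Submodule.span ↥A ({1, (X : PowerSeries k) ^ m} :
      Set (PowerSeries k)))) (ModuleCat.of ↥A ↥N) 1) = (D.card : ℕ∞) := by
  classical
  let g : Fin 1 → PowerSeries k := fun _ => X ^ m
  have hspan : Submodule.span ↥A ({1, (X : PowerSeries k) ^ m} : Set (PowerSeries k)) =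
      Submodule.span ↥A (Set.range (Fin.cases 1 g : Fin (1 + 1) → PowerSeries k)) := by
    congr 1
    ext y
    simp [Fin.exists_fin_two, g, eq_comm, Fin.exists_fin_succ]
  have hA' : ∀ f : PowerSeries k, f ∈ A → ∀ q, coeff q f ≠ 0 → q ∈ Γ := fun f hf => (hA f).mp hf
  have hC : ∀ h : Fin 1 → PowerSeries k, h ∈ Monomial.condC g ((X : PowerSeries k) ^ c) N ↔
      ∀ q, coeff q (h 0) ≠ 0 → ∀ b, b ∈ Γ → b + m ∈ Γ → c ≤ b + q ∧ b + q - c ∈ SN := by
    intro h
    constructor
    · intro hh q hq b hb hbm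
      have hmem : (fun _ => (⟨X ^ b, X_pow_mem hA hb⟩ : ↥A)) ∈ Monomial.relR A g := by
        show ∑ j : Fin 1, X ^ b * X ^ m ∈ A
        rw [Fin.sum_univ_one, ← pow_add]
        exact X_pow_mem hA hbm
      obtain ⟨y, hy, e⟩ := hh _ hmem
      rw [Fin.sum_univ_one] at e
      have h1 := congrArg (coeff (b + q)) e
      change coeff (b + q) (X ^ b * h 0) = _ at h1
      rw [add_comm b q, coeff_X_pow_mul, coeff_X_pow_mul'] at h1
      split_ifs at h1 with hcq
      · exact ⟨by omega, (hN y).mp hy _ (by rwa [add_comm b q, ← h1])⟩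
      · exact absurd h1 hq
    · intro hh a ha
      have ha' : ((a 0 : PowerSeries k)) * X ^ m ∈ A := by
        have : ∑ j : Fin 1, (a j : PowerSeries k) * X ^ m ∈ A := ha
        rwa [Fin.sum_univ_one] at this
      have key : ∀ s, coeff s ((a 0 : PowerSeries k) * h 0) ≠ 0 → c ≤ s ∧ s - c ∈ SN := by
        intro s hs
        rw [coeff_mul] at hs
        obtain ⟨⟨b, q⟩, hbq, hne⟩ := Finset.exists_ne_zero_of_sum_ne_zero hs
        rw [Finset.mem_antidiagonal] at hbq
        simp only [ne_eq, mul_eq_zero, not_or] at hne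
        simp only at hbq
        have h2 := hh q hne.2 b (hA' _ (a 0).2 b hne.1) (hA' _ ha' (b + m) (by
          rw [coeff_mul_X_pow]; exact hne.1))
        exact hbq ▸ h2
      obtain ⟨y, hy⟩ : X ^ c ∣ (a 0 : PowerSeries k) * h 0 := PowerSeries.X_pow_dvd_iff.mpr fun s hs => by
        by_contra h'
        have := (key s h').1
        omega
      refine ⟨y, (hN y).mpr fun q hq => ?_, by rw [Fin.sum_univ_one]; exact hy⟩
      have := (key (q + c) (by rwa [hy, coeff_X_pow_mul])).2
      simpa using this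
  let Φ : (Fin 1 → PowerSeries k) →ₗ[k] (↥D → k) :=
    LinearMap.pi fun q => (coeff (q : ℕ)).comp (LinearMap.proj 0)
  rw [hspan, Monomial.length_ext (hloc hA) g ((X : PowerSeries k) ^ c)
    (IsRegular.of_ne_zero (pow_ne_zero c PowerSeries.X_ne_zero)) (X_pow_mem hA (hc c le_rfl))
    (fun _ => by
      show (X : PowerSeries k) ^ c * X ^ m ∈ A
      rw [← pow_add]; exact X_pow_mem hA (hc _ (by omega)))
    N (↥D → k) Φ ?_ ?_]
  · simp [Module.finrank_pi]
  · intro t
    refine ⟨fun _ => mk fun q => if hq : q ∈ D then t ⟨q, hq⟩ else 0, (hC _).mpr fun q hq => ?_, ?_⟩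
    · rw [coeff_mk] at hq
      split_ifs at hq with hq'
      · exact ((hD q).mp hq').1
      · exact absurd rfl hq
    · funext q
      simp only [Φ, LinearMap.pi_apply, LinearMap.comp_apply, LinearMap.proj_apply]
      rw [coeff_mk, dif_pos q.2]
  · intro h hh
    rw [hC] at hh
    constructor
    · intro h0
      have hI : ∀ q, coeff q (h 0) ≠ 0 → c ≤ q ∧ (q - c ∈ SN ∨ (m ≤ q - c ∧ q - c - m ∈ SN)) := by
        intro q hq
        by_contra hno
        exact hq (congrFun h0 ⟨q, (hD q).mpr ⟨hh q hq, hno⟩⟩)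
      obtain ⟨z, hz⟩ : X ^ c ∣ h 0 := PowerSeries.X_pow_dvd_iff.mpr fun s hs => by
        by_contra h'
        have := (hI s h').1
        omega
      have hzI : ∀ s, coeff s z ≠ 0 → s ∈ SN ∨ (m ≤ s ∧ s - m ∈ SN) := fun s hs => by
        have := (hI (s + c) (by rwa [hz, coeff_X_pow_mul])).2
        simpa using this
      let v₁ : PowerSeries k := mk fun s => if s ∈ SN then coeff s z else 0
      let v₀ : PowerSeries k := -mk fun q => if q + m ∉ SN ∧ q ∈ SN then coeff (q + m) z else 0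
      refine ⟨Fin.cases v₀ fun _ => v₁, ?_, fun j => ?_⟩
      · refine Fin.cases ((hN v₀).mpr fun q hq => ?_) fun _ => (hN v₁).mpr fun q hq => ?_
        · simp only [v₀, map_neg, coeff_mk, ne_eq, neg_eq_zero, ite_eq_right_iff, Classical.not_imp] at hq
          exact hq.1.2
        · simp only [v₁, coeff_mk, ne_eq, ite_eq_right_iff, Classical.not_imp] at hq
          exact hq.1
      · obtain rfl : j = 0 := Subsingleton.elim _ _
        show h 0 = X ^ c * (v₁ - X ^ m * v₀)
        rw [hz]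
        congr 1
        ext s
        rw [map_sub, coeff_X_pow_mul']
        simp only [v₁, v₀, map_neg, coeff_mk]
        by_cases hs : coeff s z = 0
        · split_ifs <;> simp_all [Nat.sub_add_cancel]
        rcases hzI s hs with h1 | ⟨h1, h2⟩
        · rw [if_pos h1]
          split_ifs with h3 h4
          · exact absurd h1 (by simpa [Nat.sub_add_cancel h3] using h4.1)
          · simp
          · simp
        · rw [if_pos h1]
          by_cases h3 : s ∈ SN
          · rw [if_pos h3, if_neg (by rw [Nat.sub_add_cancel h1]; tauto)]; simp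
          · rw [if_neg h3, if_pos (by rw [Nat.sub_add_cancel h1]; exact ⟨h3, h2⟩), Nat.sub_add_cancel h1]; simp
    · rintro ⟨v, hv, hv'⟩
      funext q
      show coeff (q : ℕ) (h 0) = 0
      by_contra hne
      refine ((hD q).mp q.2).2 ?_
      rw [hv' 0, coeff_X_pow_mul'] at hne
      split_ifs at hne with hcq
      · refine ⟨hcq, ?_⟩
        by_contra hno
        rw [not_or] at hno
        apply hne
        have e1 : coeff ((q : ℕ) - c) (v (Fin.succ 0)) = 0 := by
          by_contra h'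
          exact hno.1 ((hN _).mp (hv _) _ h')
        rw [map_sub, e1, show g 0 = (X : PowerSeries k) ^ m from rfl, coeff_X_pow_mul']
        split_ifs with hm
        · have e0 : coeff ((q : ℕ) - c - m) (v 0) = 0 := by
            by_contra h'
            exact hno.2 ⟨hm, (hN _).mp (hv 0) _ h'⟩
          rw [e0, sub_zero]
        · rw [sub_zero]
      · exact absurd rfl hne

end Groth.Agent.TFSemigroup.MonoExt
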