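import Groth.Agent.TFSemigroup.PSeries
import Mathlib.Algebra.Category.ModuleCat.Abelian
import Mathlib.Algebra.Category.ModuleCat.Ext.HasExt
import Mathlib.Algebra.Category.ModuleCat.Projective
import Mathlib.Algebra.Homology.DerivedCategory.Ext.ExactSequences
import Mathlib.Algebra.Homology.DerivedCategory.Ext.Linear
import Mathlib.Algebra.Homology.DerivedCategory.Ext.EnoughProjectives
import Mathlib.Algebra.Homology.ShortComplex.ModuleCat
import Mathlib.RingTheory.Length
import Mathlib.LinearAlgebra.Dimension.Constructions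
import Mathlib.LinearAlgebra.Pi

/-!
# `Ext¹` of monomial modules over the cubical semigroup ring
-/

universe u

open CategoryTheory

namespace Groth.Agent.TFSemigroup.Cubical

section General

variable {A : Type u} [CommRing A]

/-- `Ext¹` from a presentation by a projective module. -/
theorem nonempty_ext_equiv {R F M N : Type u} [AddCommGroup R] [Module A R] [AddCommGroup F] [Module A F]
    [AddCommGroup M] [Module A M] [AddCommGroup N] [Module A N] [Module.Projective A F]
    (i : R →ₗ[A] F) (p : F →ₗ[A] M) (hi : Function.Injective i) (hp : Function.Surjective p)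
    (hip : Function.Exact i p) :
    Nonempty (Abelian.Ext (ModuleCat.of A M) (ModuleCat.of A N) 1 ≃ₗ[A]
      ((R →ₗ[A] N) ⧸ LinearMap.range (LinearMap.lcomp A N i))) := by
  let S : ShortComplex (ModuleCat.{u} A) :=
    ShortComplex.mk (ModuleCat.ofHom i) (ModuleCat.ofHom p) (ModuleCat.hom_ext hip.linearMap_comp_eq_zero)
  have hS : S.ShortExact :=
    { exact := (ShortComplex.ShortExact.moduleCat_exact_iff_function_exact _).mpr hip
      mono_f := (ModuleCat.mono_iff_injective _).mpr hi
      epi_g := (ModuleCat.epi_iff_surjective _).mpr hp }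
  have : Projective S.X₂ := (IsProjective.iff_projective (R := A) F).mp inferInstance
  let Y := ModuleCat.of A N
  let e₁ : (R →ₗ[A] N) ≃ₗ[A] Abelian.Ext S.X₁ Y 0 :=
    (ModuleCat.homLinearEquiv (S := A) (M := S.X₁) (N := Y)).symm.trans
      (Abelian.Ext.linearEquiv₀ (R := A) (X := S.X₁) (Y := Y)).symm
  let δ : (R →ₗ[A] N) →ₗ[A] Abelian.Ext S.X₃ Y 1 :=
    (Abelian.Ext.precompOfLinear hS.extClass A Y rfl).comp e₁.toLinearMap
  have hδ : Function.Surjective δ := fun x => by
    obtain ⟨y, hy⟩ := Abelian.Ext.contravariant_sequence_exact₃ hS Y x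
      (Abelian.Ext.eq_zero_of_projective _) (n₀ := 0) rfl
    obtain ⟨g, rfl⟩ := e₁.surjective y
    exact ⟨g, hy⟩
  have hker : LinearMap.ker δ = LinearMap.range (LinearMap.lcomp A N i) := by
    ext g
    constructor
    · intro hg
      obtain ⟨y, hy⟩ := Abelian.Ext.contravariant_sequence_exact₁ hS Y (e₁ g) rfl hg
      obtain ⟨f, rfl⟩ := (Abelian.Ext.homEquiv₀).symm.surjective y
      change (Abelian.Ext.mk₀ S.f).comp (Abelian.Ext.mk₀ f) _ = Abelian.Ext.mk₀ (ModuleCat.ofHom g) at hy
      rw [Abelian.Ext.mk₀_comp_mk₀] at hy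
      exact ⟨f.hom, congrArg ModuleCat.Hom.hom ((Abelian.Ext.mk₀_bijective _ _).1 hy)⟩
    · rintro ⟨f, rfl⟩
      show hS.extClass.comp (Abelian.Ext.mk₀ (S.f ≫ ModuleCat.ofHom f)) (show 1 + 0 = 1 from rfl) = 0
      rw [← Abelian.Ext.mk₀_comp_mk₀]
      exact hS.extClass_comp_assoc _
  exact ⟨((Submodule.quotEquivOfEq _ _ hker.symm).trans (δ.quotKerEquivOfSurjective hδ)).symm⟩

/-- Length of `Ext¹` from a presentation and an identification of the dual of the relations. -/
theorem length_ext_eq {R F M N V : Type u} [AddCommGroup R] [Module A R] [AddCommGroup F] [Module A F]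
    [AddCommGroup M] [Module A M] [AddCommGroup N] [Module A N] [AddCommGroup V] [Module A V]
    [Module.Projective A F]
    (i : R →ₗ[A] F) (p : F →ₗ[A] M) (hi : Function.Injective i) (hp : Function.Surjective p)
    (hip : Function.Exact i p) (eC : (R →ₗ[A] N) ≃ₗ[A] V) :
    Module.length A (Abelian.Ext (ModuleCat.of A M) (ModuleCat.of A N) 1) =
      Module.length A (V ⧸ (LinearMap.range (LinearMap.lcomp A N i)).map eC.toLinearMap) :=
  let ⟨E⟩ := nonempty_ext_equiv (N := N) i p hi hp hip
  E.length_eq.trans (LinearEquiv.length_eq (Submodule.Quotient.equiv _ _ eC rfl))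

/-- Length is dimension when the ring acts through the ground field. -/
theorem length_eq_finrank_of_smul {k : Type u} [Field k] [Algebra k A] (Q : Type u) [AddCommGroup Q]
    [Module A Q] [Module k Q] [IsScalarTower k A Q] [Module.Finite k Q]
    (h : ∀ a : A, ∃ c : k, ∀ q : Q, a • q = c • q) :
    Module.length A Q = Module.finrank k Q := by
  rw [← Module.length_eq_finrank k Q]
  let e : Submodule A Q ≃o Submodule k Q :=
    { toFun := fun N => N.restrictScalars k
      invFun := fun N =>
        { N.toAddSubmonoid with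
          smul_mem' := fun a q hq => by
            obtain ⟨c, hc⟩ := h a
            show a • q ∈ N
            rw [hc q]
            exact N.smul_mem c hq }
      left_inv := fun N => rfl
      right_inv := fun N => rfl
      map_rel_iff' := Iff.rfl }
  apply WithBot.coe_injective
  rw [Module.coe_length, Module.coe_length]
  exact Order.krullDim_eq_of_orderIso e

end General

open PowerSeries

variable {k : Type u} [Field k] {n : ℕ} {A : Subalgebra k (PowerSeries k)}

/-- Tuples `w` with `w j * f ∈ N` for all `f`. -/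
def condC (N : Submodule ↥A (PowerSeries k)) (r : ℕ) : Submodule ↥A (Fin r → PowerSeries k) where
  carrier := {w | ∀ j f, w j * f ∈ N}
  add_mem' := fun hv hw j f => by rw [Pi.add_apply, add_mul]; exact N.add_mem (hv j f) (hw j f)
  zero_mem' := fun j f => by simp
  smul_mem' := fun a w hw j f => by
    show ((a : PowerSeries k) * w j) * f ∈ N
    rw [mul_assoc]
    exact N.smul_mem a (hw j f)

variable (hA : ∀ f : PowerSeries k, f ∈ A ↔ ∀ m : ℕ, coeff m f ≠ 0 → (m = 0 ∨ n ≤ m))

include hA

theorem X_pow_mul_mem (f : PowerSeries k) : X ^ n * f ∈ A := (hA _).mpr fun m hm => by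
  right
  by_contra h
  exact hm (by rw [coeff_X_pow_mul', if_neg h])

theorem X_pow_dvd_mem {f : PowerSeries k} (h : X ^ n ∣ f) : f ∈ A := by
  obtain ⟨g, rfl⟩ := h
  exact X_pow_mul_mem hA g

theorem sub_const_dvd (a : ↥A) :
    X ^ n ∣ (a : PowerSeries k) - PowerSeries.C (constantCoeff (a : PowerSeries k)) := by
  rw [PowerSeries.X_pow_dvd_iff]
  intro m hm
  by_cases h0 : m = 0
  · subst h0; simp
  · rw [map_sub, coeff_C, if_neg h0, sub_zero]
    by_contra h
    rcases (hA _).mp a.2 m h with h' | h' <;> omega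

theorem smul_eq_const_add (a : ↥A) (f : PowerSeries k) :
    ∃ w, (a : PowerSeries k) * f = constantCoeff (a : PowerSeries k) • f + X ^ n * w := by
  obtain ⟨w, hw⟩ := sub_const_dvd hA a
  exact ⟨w * f, by rw [smul_eq_C_mul, ← mul_assoc, ← hw]; ring⟩

/-- `A`-linear maps out of `k[[t]]` are multiplications. -/
theorem hom_eq_mul {N : Submodule ↥A (PowerSeries k)} (φ : PowerSeries k →ₗ[↥A] ↥N) (f : PowerSeries k) :
    (φ f : PowerSeries k) = f * (φ 1 : PowerSeries k) := by
  have h1 := congrArg Subtype.val (map_smul φ (⟨X ^ n, by simpa using X_pow_mul_mem hA 1⟩ : ↥A) f)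
  have h2 := congrArg Subtype.val (map_smul φ (⟨X ^ n * f, X_pow_mul_mem hA f⟩ : ↥A) 1)
  change (φ (X ^ n * f) : PowerSeries k) = X ^ n * (φ f : PowerSeries k) at h1
  change (φ (X ^ n * f * 1) : PowerSeries k) = X ^ n * f * (φ 1 : PowerSeries k) at h2
  rw [mul_one, h1, mul_assoc] at h2
  exact mul_left_cancel₀ (pow_ne_zero n PowerSeries.X_ne_zero) h2

theorem exists_presentation {r : ℕ} (e : Fin (r + 1) → ℕ) (he0 : e 0 = 0) (hen : ∀ j, e j < n)
    (hinj : Function.Injective e) :
    ∃ (i : (Fin r → PowerSeries k) →ₗ[↥A] (Fin (r + 1) → ↥A))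
      (p : (Fin (r + 1) → ↥A) →ₗ[↥A] ↥(Submodule.span ↥A (Set.range fun j => (X : PowerSeries k) ^ e j))),
      Function.Injective i ∧ Function.Surjective p ∧ Function.Exact i p ∧
      (∀ w, ((i w) 0 : PowerSeries k) = X ^ n * (-∑ j : Fin r, X ^ e j.succ * w j)) ∧
      ∀ w (j : Fin r), ((i w) j.succ : PowerSeries k) = X ^ n * w j := by
  classical
  let π := Fintype.linearCombination ↥A (fun j => (X : PowerSeries k) ^ e j)
  have hπ : LinearMap.range π = Submodule.span ↥A (Set.range fun j => (X : PowerSeries k) ^ e j) :=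
    Fintype.range_linearCombination ↥A _
  let p : (Fin (r + 1) → ↥A) →ₗ[↥A] ↥(Submodule.span ↥A (Set.range fun j => (X : PowerSeries k) ^ e j)) :=
    π.codRestrict _ fun v => hπ ▸ LinearMap.mem_range_self π v
  have hp : Function.Surjective p := fun ⟨f, hf⟩ => by
    rw [← hπ] at hf
    obtain ⟨v, rfl⟩ := hf
    exact ⟨v, rfl⟩
  let i : (Fin r → PowerSeries k) →ₗ[↥A] (Fin (r + 1) → ↥A) :=
    { toFun := fun w => Fin.cases ⟨X ^ n * (-∑ j : Fin r, X ^ e j.succ * w j), X_pow_mul_mem hA _⟩
        (fun j => ⟨X ^ n * w j, X_pow_mul_mem hA _⟩)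
      map_add' := fun v w => funext fun j => Subtype.ext (by
        refine Fin.cases ?_ (fun j => ?_) j
        · simp [mul_add, Finset.sum_add_distrib, add_comm]
        · simp [mul_add])
      map_smul' := fun a w => funext fun j => Subtype.ext (by
        refine Fin.cases ?_ (fun j => ?_) j
        · show X ^ n * (-∑ j : Fin r, X ^ e j.succ * ((a : PowerSeries k) * w j)) =
            (a : PowerSeries k) * (X ^ n * (-∑ j : Fin r, X ^ e j.succ * w j))
          simp only [mul_neg, Finset.mul_sum, neg_inj]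
          exact Finset.sum_congr rfl fun j _ => by ring
        · show X ^ n * ((a : PowerSeries k) * w j) = (a : PowerSeries k) * (X ^ n * w j)
          ring) }
  have hi0 : ∀ w, ((i w) 0 : PowerSeries k) = X ^ n * (-∑ j : Fin r, X ^ e j.succ * w j) := fun _ => rfl
  have his : ∀ w (j : Fin r), ((i w) j.succ : PowerSeries k) = X ^ n * w j := fun _ _ => rfl
  have hi : Function.Injective i := fun v w h => funext fun j =>
    mul_left_cancel₀ (pow_ne_zero n PowerSeries.X_ne_zero) (congrArg Subtype.val (congrFun h j.succ))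
  have hπv : ∀ v : Fin (r + 1) → ↥A, π v = ∑ j, (v j : PowerSeries k) * X ^ e j := fun v =>
    Fintype.linearCombination_apply ↥A _ v
  have hip : Function.Exact i p := by
    intro v
    constructor
    · intro h
      have h0 : ∑ j, (v j : PowerSeries k) * X ^ e j = 0 := (hπv v).symm.trans (congrArg Subtype.val h)
      have hc : ∀ j, X ^ n ∣ (v j : PowerSeries k) := by
        intro j
        have hdvd : X ^ n ∣ ∑ l, PowerSeries.C (constantCoeff (v l : PowerSeries k)) * X ^ e l := by
          have h3 : ∀ l, X ^ n ∣ ((v l : PowerSeries k) - PowerSeries.C (constantCoeff (v l : PowerSeries k))) * X ^ e l :=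
            fun l => (sub_const_dvd hA (v l)).mul_right _
          have h4 := Finset.dvd_sum (s := Finset.univ) fun l _ => h3 l
          simp only [sub_mul, Finset.sum_sub_distrib, h0, zero_sub, dvd_neg] at h4
          exact h4
        have h2 := PowerSeries.X_pow_dvd_iff.mp hdvd (e j) (hen j)
        rw [map_sum, Finset.sum_eq_single j] at h2
        · rw [coeff_C_mul_X_pow, if_pos rfl] at h2
          have h5 := sub_const_dvd hA (v j)
          rwa [h2, map_zero, sub_zero] at h5
        · intro l _ hl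
          rw [coeff_C_mul_X_pow, if_neg fun h' => hl (hinj h').symm]
        · simp
      choose w hw using hc
      refine ⟨fun j => w j.succ, funext fun j => Subtype.ext ?_⟩
      refine Fin.cases ?_ (fun j => ?_) j
      · rw [hi0]
        simp only [Fin.sum_univ_succ, he0, pow_zero, mul_one] at h0
        rw [eq_neg_of_add_eq_zero_left h0, mul_neg, Finset.mul_sum]
        congr 1
        refine Finset.sum_congr rfl fun l _ => ?_
        rw [hw l.succ]
        ring
      · rw [his, hw j.succ]
    · rintro ⟨w, rfl⟩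
      apply Subtype.ext
      show π (i w) = 0
      rw [hπv, Fin.sum_univ_succ, hi0, he0]
      simp only [his, pow_zero, mul_one, mul_neg, Finset.mul_sum]
      rw [neg_add_eq_zero]
      exact Finset.sum_congr rfl fun l _ => by ring
  exact ⟨i, p, hi, hp, hip, hi0, his⟩

theorem exists_hom_equiv (N : Submodule ↥A (PowerSeries k)) (r : ℕ) :
    ∃ eC : ((Fin r → PowerSeries k) →ₗ[↥A] ↥N) ≃ₗ[↥A] ↥(condC N r),
      ∀ φ j, (eC φ).1 j = (φ (Pi.single j 1) : PowerSeries k) := by
  classical
  let one : Fin r → (Fin r → PowerSeries k) := fun j => Pi.single j 1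
  let ev : ((Fin r → PowerSeries k) →ₗ[↥A] ↥N) →ₗ[↥A] ↥(condC N r) :=
    { toFun := fun φ => ⟨fun j => (φ (one j) : PowerSeries k), fun j f => by
        have := hom_eq_mul hA (φ.comp (LinearMap.single ↥A (fun _ : Fin r => PowerSeries k) j)) f
        rw [mul_comm]
        exact this ▸ (φ (Pi.single j f)).2⟩
      map_add' := fun _ _ => rfl
      map_smul' := fun _ _ => rfl }
  have hev : ∀ φ w, (φ w : PowerSeries k) = ∑ j, w j * (ev φ).1 j := by
    intro φ w
    conv_lhs => rw [← Finset.univ_sum_single w, map_sum, AddSubmonoidClass.coe_finsetSum]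
    exact Finset.sum_congr rfl fun j _ =>
      hom_eq_mul hA (φ.comp (LinearMap.single ↥A (fun _ : Fin r => PowerSeries k) j)) (w j)
  have hevinj : Function.Injective ev := fun φ ψ h => LinearMap.ext fun w => Subtype.ext (by
    rw [hev, hev, h])
  have hevsurj : Function.Surjective ev := by
    intro c
    refine ⟨LinearMap.codRestrict N (∑ j, ((LinearMap.mulRight (PowerSeries k) (c.1 j)).restrictScalars ↥A).comp
      (LinearMap.proj j)) fun w => ?_, Subtype.ext (funext fun l => ?_)⟩
    · simp only [LinearMap.coe_sum, Finset.sum_apply]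
      exact N.sum_mem fun j _ => by simpa [mul_comm] using c.2 j (w j)
    · simp [ev, one, Pi.single_apply]
  exact ⟨LinearEquiv.ofBijective ev ⟨hevinj, hevsurj⟩, fun _ _ => rfl⟩

/-- The length of `Ext¹(M, N)`, `M` generated by monomials `X ^ e j`. -/
theorem length_ext {r : ℕ} (e : Fin (r + 1) → ℕ) (he0 : e 0 = 0) (hen : ∀ j, e j < n)
    (hinj : Function.Injective e)
    (N : Submodule ↥A (PowerSeries k))
    (T : Type u) [AddCommGroup T] [Module k T] [Module.Finite k T]
    (Φ : (Fin r → PowerSeries k) →ₗ[k] T)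
    (hsurj : ∀ t, ∃ w : Fin r → PowerSeries k, (∀ j f, w j * f ∈ N) ∧ Φ w = t)
    (hker : ∀ w : Fin r → PowerSeries k, (∀ j f, w j * f ∈ N) →
      (Φ w = 0 ↔ ∃ v : Fin (r + 1) → PowerSeries k, (∀ j, v j ∈ N) ∧
        ∀ j : Fin r, w j = X ^ n * (v j.succ - X ^ e j.succ * v 0))) :
    Module.length ↥A (Abelian.Ext (ModuleCat.of ↥A ↥(Submodule.span ↥A
      (Set.range fun j => (X : PowerSeries k) ^ e j))) (ModuleCat.of ↥A ↥N) 1) = Module.finrank k T := by
  classical
  obtain ⟨i, p, hi, hp, hip, hi0, his⟩ := exists_presentation hA e he0 hen hinj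
  -- homomorphisms from the relations
  let C := condC N r
  let one : Fin r → (Fin r → PowerSeries k) := fun j => Pi.single j 1
  obtain ⟨eC, heC⟩ := exists_hom_equiv hA N r
  refine (length_ext_eq (R := Fin r → PowerSeries k) (F := Fin (r + 1) → ↥A)
    (M := ↥(Submodule.span ↥A (Set.range fun j => (X : PowerSeries k) ^ e j))) (N := ↥N) (V := ↥(condC N r))
    i p hi hp hip eC).trans ?_
  let I : Submodule ↥A ↥C := (LinearMap.range (LinearMap.lcomp ↥A ↥N i)).map eC.toLinearMap
  let : AddCommGroup ↥C := Submodule.addCommGroup C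
  show Module.length ↥A (↥C ⧸ I) = _
  let Φ' : ↥C →ₗ[k] T := Φ.comp (C.subtype.restrictScalars k)
  have hΦ' : Function.Surjective Φ' := fun t => let ⟨w, hw, hwt⟩ := hsurj t; ⟨⟨w, hw⟩, hwt⟩
  have hcomb : ∀ (v : Fin (r + 1) → PowerSeries k) (hv : ∀ j, v j ∈ N) (a : Fin (r + 1) → ↥A),
      ∑ j, (a j : PowerSeries k) * v j ∈ N := fun v hv a => N.sum_mem fun j _ => N.smul_mem (a j) (hv j)
  have hone : ∀ (v : Fin (r + 1) → PowerSeries k) (j : Fin r),
      ∑ l, ((i (one j)) l : PowerSeries k) * v l = X ^ n * (v j.succ - X ^ e j.succ * v 0) := by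
    intro v j
    rw [Fin.sum_univ_succ, hi0, Finset.sum_eq_single j]
    · rw [Finset.sum_eq_single j]
      · rw [his]; simp [one]; ring
      · intro l _ hl; rw [his]; simp [one, Pi.single_eq_of_ne hl]
      · simp
    · intro l _ hl; simp [one, Pi.single_eq_of_ne hl]
    · simp
  have hI : I.restrictScalars k = LinearMap.ker Φ' := by
    ext c
    constructor
    · rintro ⟨_, ⟨ψ, rfl⟩, rfl⟩
      refine (hker _ (eC (LinearMap.lcomp ↥A ↥N i ψ)).2).mpr
        ⟨fun l => (ψ (Pi.single l 1) : PowerSeries k), fun l => (ψ _).2, fun j => ?_⟩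
      refine Eq.trans ?_ (hone (fun l => (ψ (Pi.single l 1) : PowerSeries k)) j)
      refine (heC (LinearMap.lcomp ↥A ↥N i ψ) j).trans ?_
      show (ψ (i (one j)) : PowerSeries k) = _
      conv_lhs => rw [← Finset.univ_sum_single (i (one j)), map_sum, AddSubmonoidClass.coe_finsetSum]
      refine Finset.sum_congr rfl fun l _ => ?_
      have h : (Pi.single l ((i (one j)) l) : Fin (r + 1) → ↥A) = ((i (one j)) l) • Pi.single l (1 : ↥A) := by
        rw [← Pi.single_smul, smul_eq_mul, mul_one]
      rw [h, map_smul]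
      rfl
    · intro hc
      obtain ⟨v, hv, hvc⟩ := (hker _ c.2).mp hc
      let ψ : (Fin (r + 1) → ↥A) →ₗ[↥A] ↥N :=
        (Fintype.linearCombination ↥A v).codRestrict N fun a => by
          rw [Fintype.linearCombination_apply]
          exact hcomb v hv a
      refine ⟨_, ⟨ψ, rfl⟩, Subtype.ext (funext fun j => ?_)⟩
      refine (heC _ j).trans ?_
      show (Fintype.linearCombination ↥A v) (i (one j)) = c.1 j
      rw [Fintype.linearCombination_apply, hvc, ← hone]
      rfl
  let eQ : (↥C ⧸ I) ≃ₗ[k] T := (Submodule.Quotient.restrictScalarsEquiv k I).symm.trans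
    ((Submodule.quotEquivOfEq _ _ hI).trans (Φ'.quotKerEquivOfSurjective hΦ'))
  have : Module.Finite k (↥C ⧸ I) := Module.Finite.equiv eQ.symm
  rw [length_eq_finrank_of_smul (k := k), eQ.finrank_eq]
  intro a
  refine ⟨constantCoeff (a : PowerSeries k), fun q => ?_⟩
  obtain ⟨c, rfl⟩ := I.mkQ_surjective q
  rw [← sub_eq_zero, Submodule.mkQ_apply, ← Submodule.Quotient.mk_smul, ← Submodule.Quotient.mk_smul,
    ← Submodule.Quotient.mk_sub, Submodule.Quotient.mk_eq_zero]
  show a • c - constantCoeff (a : PowerSeries k) • c ∈ I.restrictScalars k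
  rw [hI, LinearMap.mem_ker]
  obtain ⟨w, hw⟩ := sub_const_dvd hA a
  refine (hker _ (a • c - constantCoeff (a : PowerSeries k) • c).2).mpr
    ⟨Fin.cases 0 fun j => w * c.1 j, Fin.cases N.zero_mem fun j => by
      simpa [mul_comm] using c.2 j w, fun j => ?_⟩
  show (a : PowerSeries k) * c.1 j - constantCoeff (a : PowerSeries k) • c.1 j =
    X ^ n * (w * c.1 j - X ^ e j.succ * 0)
  rw [smul_eq_C_mul, ← sub_mul, hw]
  ring

end Groth.Agent.TFSemigroup.Cubical

namespace Groth.Agent.TFSemigroup.Cubical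

open PowerSeries

variable {k : Type u} [Field k] {n : ℕ} {A : Subalgebra k (PowerSeries k)}
variable (hA : ∀ f : PowerSeries k, f ∈ A ↔ ∀ m : ℕ, coeff m f ≠ 0 → (m = 0 ∨ n ≤ m))

include hA

/-- The modules generated by monomials of degree `< n`. -/
theorem mem_span_monomials {r : ℕ} (e : Fin (r + 1) → ℕ) (he0 : e 0 = 0) (f : PowerSeries k) :
    f ∈ Submodule.span ↥A (Set.range fun j => (X : PowerSeries k) ^ e j) ↔
      ∀ m, m < n → (∀ j, e j ≠ m) → coeff m f = 0 := by
  classical
  constructor
  · intro hf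
    induction hf using Submodule.span_induction with
    | mem g hg =>
      obtain ⟨j, rfl⟩ := hg
      intro m _ hm
      rw [coeff_X_pow, if_neg (hm j).symm]
    | zero => simp
    | add x y _ _ hx hy => intro m h h'; rw [map_add, hx m h h', hy m h h', add_zero]
    | smul a x _ hx =>
      intro m h h'
      obtain ⟨w, hw⟩ := smul_eq_const_add hA a x
      show coeff m ((a : PowerSeries k) * x) = 0
      rw [hw, map_add, map_smul, hx m h h', smul_zero, zero_add, coeff_X_pow_mul', if_neg (by omega)]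
  · intro h
    let s := Finset.univ.image e
    have h1 : ∀ m, m ∈ s → (X : PowerSeries k) ^ m ∈ Submodule.span ↥A (Set.range fun j => (X : PowerSeries k) ^ e j) := by
      intro m hm
      obtain ⟨j, -, rfl⟩ := Finset.mem_image.mp hm
      exact Submodule.subset_span ⟨j, rfl⟩
    let g : PowerSeries k := ∑ m ∈ s, coeff m f • X ^ m
    have hg : g ∈ Submodule.span ↥A (Set.range fun j => (X : PowerSeries k) ^ e j) :=
      Submodule.sum_mem _ fun m hm => Submodule.smul_of_tower_mem _ _ (h1 m hm)
    obtain ⟨w, hw⟩ : X ^ n ∣ f - g := by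
      rw [PowerSeries.X_pow_dvd_iff]
      intro m hm
      simp only [g, map_sub, map_sum, map_smul, coeff_X_pow, smul_eq_mul, mul_ite, mul_one, mul_zero]
      rw [Finset.sum_ite_eq]
      split_ifs with hms
      · exact sub_self _
      · rw [sub_zero]
        exact h m hm fun j hj => hms (Finset.mem_image.mpr ⟨j, Finset.mem_univ j, hj⟩)
    have h2 : (⟨X ^ n * w, X_pow_mul_mem hA w⟩ : ↥A) • (X : PowerSeries k) ^ (0 : ℕ) ∈
        Submodule.span ↥A (Set.range fun j => (X : PowerSeries k) ^ e j) :=
      Submodule.smul_mem _ _ (Submodule.subset_span ⟨0, by simp [he0]⟩)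
    have h3 : f = g + (⟨X ^ n * w, X_pow_mul_mem hA w⟩ : ↥A) • (X : PowerSeries k) ^ (0 : ℕ) := by
      show f = g + (X ^ n * w) * X ^ (0 : ℕ)
      rw [← hw]; ring
    rw [h3]
    exact Submodule.add_mem _ hg h2

omit hA

theorem length_ext_congr {B : Type u} [CommRing B] {M M' N N' : Type u} [AddCommGroup M] [Module B M]
    [AddCommGroup M'] [Module B M'] [AddCommGroup N] [Module B N] [AddCommGroup N'] [Module B N']
    (eM : M ≃ₗ[B] M') (eN : N ≃ₗ[B] N') :
    Module.length B (Abelian.Ext (ModuleCat.of B M) (ModuleCat.of B N) 1) =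
      Module.length B (Abelian.Ext (ModuleCat.of B M') (ModuleCat.of B N') 1) := by
  let F := (Abelian.Ext.postcompOfLinear (Abelian.Ext.mk₀ eN.toModuleIso.hom) B (ModuleCat.of B M')
      (show 1 + 0 = 1 from rfl)).comp
    (Abelian.Ext.precompOfLinear (Abelian.Ext.mk₀ eM.toModuleIso.inv) B (ModuleCat.of B N) (show 0 + 1 = 1 from rfl))
  refine (LinearEquiv.ofBijective F ⟨fun x y h => ?_, fun y => ?_⟩).length_eq
  · have h2 := congrArg (fun z => (Abelian.Ext.mk₀ eM.toModuleIso.hom).comp
      (z.comp (Abelian.Ext.mk₀ eN.toModuleIso.inv) (add_zero 1)) (zero_add 1)) h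
    simpa [F, -LinearEquiv.toModuleIso_hom, -LinearEquiv.toModuleIso_inv] using h2
  · exact ⟨(Abelian.Ext.mk₀ eM.toModuleIso.hom).comp
      (y.comp (Abelian.Ext.mk₀ eN.toModuleIso.inv) (add_zero 1)) (zero_add 1), by simp [F, -LinearEquiv.toModuleIso_hom, -LinearEquiv.toModuleIso_inv]⟩

end Groth.Agent.TFSemigroup.Cubical
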