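import Groth.Agent.TFSemigroup.Cubical
import Mathlib.RingTheory.Nakayama
import Mathlib.RingTheory.Length
import Mathlib.LinearAlgebra.FiniteDimensional.Lemmas
import Mathlib.LinearAlgebra.Dimension.RankNullity

/-!
# `Ext¹` of lattices generated by given elements
-/

universe u

open CategoryTheory PowerSeries

namespace Groth.Agent.TFSemigroup.Monomial

section Length

variable {k : Type u} [Field k] {A : Type u} [CommRing A] [Algebra k A]

theorem length_eq_finrank_local (hloc : ∀ a : A, ∃ c : k, a - algebraMap k A c ∈ Ideal.jacobson (⊥ : Ideal A))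
    (Q : Type u) [AddCommGroup Q] [Module A Q] [Module k Q] [IsScalarTower k A Q] [Module.Finite k Q] :
    Module.length A Q = Module.finrank k Q := by
  suffices h : ∀ (d : ℕ) (P : Submodule A Q), Module.finrank k (P.restrictScalars k) = d →
      Module.length A P = d by
    have h1 := h _ ⊤ rfl
    have h2 : (⊤ : Submodule A Q).restrictScalars k = ⊤ := Submodule.restrictScalars_top k A Q
    rw [Module.length_top, h2, finrank_top] at h1
    exact h1
  intro d
  induction d using Nat.strong_induction_on with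
  | _ d ih =>
    intro P hd
    let J := Ideal.jacobson (⊥ : Ideal A)
    have hfin : Module.Finite A Q := Module.Finite.of_restrictScalars_finite k A Q
    have hPfg : P.FG := by
      have : (P.restrictScalars k).FG := IsNoetherian.noetherian _
      obtain ⟨s, hs⟩ := this
      refine ⟨s, le_antisymm (Submodule.span_le.mpr fun y hy => ?_) fun y hy => ?_⟩
      · have : y ∈ P.restrictScalars k := hs ▸ Submodule.subset_span hy
        exact this
      · have h1 : y ∈ Submodule.span k (s : Set Q) := hs.symm ▸ hy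
        exact Submodule.span_le_restrictScalars k A _ h1
    by_cases hP : P = ⊥
    · subst hP
      rw [← hd, Submodule.restrictScalars_bot, finrank_bot]
      exact Module.length_bot
    let P' : Submodule A P := J • ⊤
    have hlt : P'.map P.subtype < P := by
      rw [Submodule.map_smul'', Submodule.map_top, Submodule.range_subtype]
      refine lt_of_le_of_ne Submodule.smul_le_right fun h => hP ?_
      exact Submodule.eq_bot_of_le_smul_of_le_jacobson_bot J P hPfg h.ge le_rfl
    have hlt' : Module.finrank k ((P'.map P.subtype).restrictScalars k) < d :=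
      hd ▸ Submodule.finrank_lt_finrank_of_lt (s := (P'.map P.subtype).restrictScalars k) (t := P.restrictScalars k) hlt
    have h1 := ih _ hlt' (P'.map P.subtype) rfl
    have : Module.Finite k P := Module.Finite.equiv (LinearEquiv.refl k (P.restrictScalars k))
    have : Module.Finite k (P ⧸ P') :=
      Module.Finite.of_surjective (P'.mkQ.restrictScalars k) P'.mkQ_surjective
    have h2 : Module.length A (P ⧸ P') = Module.finrank k (P ⧸ P') := by
      refine Cubical.length_eq_finrank_of_smul _ fun a => ?_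
      obtain ⟨c, hc⟩ := hloc a
      refine ⟨c, fun q => ?_⟩
      obtain ⟨y, rfl⟩ := P'.mkQ_surjective q
      rw [Submodule.mkQ_apply, ← Submodule.Quotient.mk_smul, ← Submodule.Quotient.mk_smul, Submodule.Quotient.eq,
        ← algebraMap_smul A c y, ← sub_smul]
      exact Submodule.smul_mem_smul hc Submodule.mem_top
    have h3 : Module.finrank k (P ⧸ P') + Module.finrank k ((P'.map P.subtype).restrictScalars k) = d := by
      have e : ↥(P'.restrictScalars k) ≃ₗ[k] ↥((P'.map P.subtype).restrictScalars k) :=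
        (Submodule.equivMapOfInjective P.subtype Subtype.val_injective P').restrictScalars k
      rw [← e.finrank_eq, ← (Submodule.Quotient.restrictScalarsEquiv k P').finrank_eq, ← hd]
      exact (P'.restrictScalars k).finrank_quotient_add_finrank
    rw [Module.length_eq_add_of_exact P'.subtype P'.mkQ Subtype.val_injective P'.mkQ_surjective
      (LinearMap.exact_subtype_mkQ P'),
      (Submodule.equivMapOfInjective P.subtype Subtype.val_injective P').length_eq, h1, h2, ← h3]
    push_cast
    exact add_comm _ _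

theorem length_quot_of_ker (hloc : ∀ a : A, ∃ c : k, a - algebraMap k A c ∈ Ideal.jacobson (⊥ : Ideal A))
    (V : Type u) [AddCommGroup V] [Module A V] [Module k V] [IsScalarTower k A V] (I : Submodule A V)
    (T : Type u) [AddCommGroup T] [Module k T] [Module.Finite k T] (Φ : V →ₗ[k] T) (hΦ : Function.Surjective Φ)
    (hI : I.restrictScalars k = LinearMap.ker Φ) : Module.length A (V ⧸ I) = Module.finrank k T := by
  let eQ : (V ⧸ I) ≃ₗ[k] T := (Submodule.Quotient.restrictScalarsEquiv k I).symm.trans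
    ((Submodule.quotEquivOfEq _ _ hI).trans (Φ.quotKerEquivOfSurjective hΦ))
  have : Module.Finite k (V ⧸ I) := Module.Finite.equiv eQ.symm
  rw [length_eq_finrank_local (k := k) hloc, eQ.finrank_eq]

theorem length_ext_eq_sub {B : Type u} [CommRing B] {W W' W'' U : Type u} [AddCommGroup W] [Module B W]
    [AddCommGroup W'] [Module B W'] [AddCommGroup W''] [Module B W''] [AddCommGroup U] [Module B U]
    {m : ℕ} (R : Submodule B W) (M : Submodule B W') (N : Submodule B W'') (V : Submodule B U)
    (i : ↥R →ₗ[B] (Fin m → B)) (p : (Fin m → B) →ₗ[B] ↥M) (hi : Function.Injective i)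
    (hp : Function.Surjective p) (hip : Function.Exact i p) (eC : (↥R →ₗ[B] ↥N) ≃ₗ[B] ↥V) :
    Module.length B (CategoryTheory.Abelian.Ext (ModuleCat.of B ↥M) (ModuleCat.of B ↥N) 1) =
      Module.length B (↥V ⧸ (LinearMap.range (LinearMap.lcomp B ↥N i)).map eC.toLinearMap) :=
  Cubical.length_ext_eq i p hi hp hip eC

end Length

section Ext

variable {k : Type u} [Field k] {P : Type u} [CommRing P] [Algebra k P] (A : Subalgebra k P)

/-- The relations on `1, g` projected to the coordinates of `g`. -/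
def relR {r : ℕ} (g : Fin r → P) : Submodule ↥A (Fin r → ↥A) where
  carrier := {a | ∑ j, (a j : P) * g j ∈ A}
  add_mem' := fun {a b} ha hb => by
    show ∑ j, ((a + b) j : P) * g j ∈ A
    simp only [Pi.add_apply, AddMemClass.coe_add, add_mul, Finset.sum_add_distrib]
    exact A.add_mem ha hb
  zero_mem' := by simp
  smul_mem' := fun c a ha => by
    show ∑ j, ((c • a) j : P) * g j ∈ A
    simp only [Pi.smul_apply, smul_eq_mul, MulMemClass.coe_mul, mul_assoc, ← Finset.mul_sum]
    exact A.mul_mem c.2 ha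

theorem exists_presentation {r : ℕ} (g : Fin r → P) :
    ∃ (i : ↥(relR A g) →ₗ[↥A] (Fin (r + 1) → ↥A))
      (p : (Fin (r + 1) → ↥A) →ₗ[↥A] ↥(Submodule.span ↥A (Set.range (Fin.cases 1 g : Fin (r + 1) → P)))),
      Function.Injective i ∧ Function.Surjective p ∧ Function.Exact i p ∧
      (∀ a, ((i a) 0 : P) = -∑ j : Fin r, (a.1 j : P) * g j) ∧
      ∀ a (j : Fin r), (i a) j.succ = a.1 j := by
  classical
  let π := Fintype.linearCombination ↥A (Fin.cases 1 g : Fin (r + 1) → P)
  have hπ : LinearMap.range π = Submodule.span ↥A (Set.range (Fin.cases 1 g : Fin (r + 1) → P)) :=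
    Fintype.range_linearCombination ↥A _
  let p : (Fin (r + 1) → ↥A) →ₗ[↥A] ↥(Submodule.span ↥A (Set.range (Fin.cases 1 g : Fin (r + 1) → P))) :=
    π.codRestrict _ fun v => hπ ▸ LinearMap.mem_range_self π v
  have hp : Function.Surjective p := fun ⟨f, hf⟩ => by
    rw [← hπ] at hf
    obtain ⟨v, rfl⟩ := hf
    exact ⟨v, rfl⟩
  let i : ↥(relR A g) →ₗ[↥A] (Fin (r + 1) → ↥A) :=
    { toFun := fun a => Fin.cases ⟨-∑ j, (a.1 j : P) * g j, A.neg_mem a.2⟩ a.1
      map_add' := fun a b => funext fun j => by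
        refine Fin.cases (Subtype.ext ?_) (fun j => rfl) j
        simp [add_mul, Finset.sum_add_distrib, add_comm]
      map_smul' := fun c a => funext fun j => by
        refine Fin.cases (Subtype.ext ?_) (fun j => rfl) j
        show -∑ j, ((c : P) * (a.1 j : P)) * g j = (c : P) * -∑ j, (a.1 j : P) * g j
        simp [Finset.mul_sum, mul_assoc] }
  have hi : Function.Injective i := fun a b h => Subtype.ext (funext fun j => congrFun h j.succ)
  have hπv : ∀ v : Fin (r + 1) → ↥A, π v = (v 0 : P) + ∑ j, (v j.succ : P) * g j := fun v => by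
    rw [Fintype.linearCombination_apply, Fin.sum_univ_succ]
    congr 1
    exact mul_one _
  refine ⟨i, p, hi, hp, fun v => ?_, fun a => rfl, fun a j => rfl⟩
  constructor
  · intro h
    have h0 : (v 0 : P) + ∑ j, (v j.succ : P) * g j = 0 := (hπv v).symm.trans (congrArg Subtype.val h)
    have hmem : ∑ j, (v j.succ : P) * g j ∈ A := by
      rw [eq_neg_of_add_eq_zero_right h0]
      exact A.neg_mem (v 0).2
    refine ⟨⟨fun j => v j.succ, hmem⟩, funext fun j => ?_⟩
    refine Fin.cases (Subtype.ext ?_) (fun j => rfl) j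
    exact (eq_neg_of_add_eq_zero_left h0).symm
  · rintro ⟨a, rfl⟩
    apply Subtype.ext
    show π (i a) = 0
    rw [hπv]
    exact neg_add_cancel _

variable {A}

/-- Tuples representing maps from the relations to `N`. -/
def condC {r : ℕ} (g : Fin r → P) (x : P) (N : Submodule ↥A P) : Submodule ↥A (Fin r → P) where
  carrier := {h | ∀ a ∈ relR A g, ∃ y ∈ N, ∑ j, (a j : P) * h j = x * y}
  add_mem' := fun {h h'} hh hh' a ha => by
    obtain ⟨y, hy, e⟩ := hh a ha
    obtain ⟨y', hy', e'⟩ := hh' a ha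
    exact ⟨y + y', N.add_mem hy hy', by simp only [Pi.add_apply, mul_add, Finset.sum_add_distrib, e, e']⟩
  zero_mem' := fun a _ => ⟨0, N.zero_mem, by simp⟩
  smul_mem' := fun c h hh a ha => by
    obtain ⟨y, hy, e⟩ := hh a ha
    refine ⟨c • y, N.smul_mem c hy, ?_⟩
    show ∑ j, (a j : P) * ((c : P) * h j) = x * ((c : P) * y)
    rw [mul_left_comm x, ← e, Finset.mul_sum]
    exact Finset.sum_congr rfl fun j _ => mul_left_comm _ _ _

theorem exists_hom_equiv {r : ℕ} (g : Fin r → P) (x : P) (hx : IsRegular x) (hxA : x ∈ A)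
    (hxg : ∀ j, x * g j ∈ A) (N : Submodule ↥A P) :
    ∃ eC : (↥(relR A g) →ₗ[↥A] ↥N) ≃ₗ[↥A] ↥(condC g x N),
      ∀ φ a, x * (φ a : P) = ∑ j, (a.1 j : P) * (eC φ).1 j := by
  classical
  have hE : ∀ j, (Pi.single j (⟨x, hxA⟩ : ↥A) : Fin r → ↥A) ∈ relR A g := fun j => by
    show ∑ l, ((Pi.single j (⟨x, hxA⟩ : ↥A) : Fin r → ↥A) l : P) * g l ∈ A
    rw [Finset.sum_eq_single j (fun l _ hl => by simp [Pi.single_eq_of_ne hl]) (by simp), Pi.single_eq_same]
    exact hxg j
  let E : Fin r → ↥(relR A g) := fun j => ⟨_, hE j⟩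
  have key : ∀ (φ : ↥(relR A g) →ₗ[↥A] ↥N) a, x * (φ a : P) = ∑ j, (a.1 j : P) * (φ (E j) : P) := by
    intro φ a
    have h1 : (⟨x, hxA⟩ : ↥A) • a = ∑ j, a.1 j • E j := by
      apply Subtype.ext
      rw [Submodule.coe_sum]
      funext l
      rw [Finset.sum_apply, Finset.sum_eq_single l]
      · simp [E, mul_comm]
      · intro j _ hj
        simp [E, Pi.single_eq_of_ne hj.symm]
      · simp
    have h2 := congrArg (fun y => (φ y : P)) h1
    simp only [map_smul, map_sum, AddSubmonoidClass.coe_finsetSum] at h2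
    exact h2
  let ev : (↥(relR A g) →ₗ[↥A] ↥N) →ₗ[↥A] ↥(condC g x N) :=
    { toFun := fun φ => ⟨fun j => (φ (E j) : P), fun a ha => ⟨_, (φ ⟨a, ha⟩).2, (key φ ⟨a, ha⟩).symm⟩⟩
      map_add' := fun _ _ => rfl
      map_smul' := fun _ _ => rfl }
  have hinj : Function.Injective ev := fun φ ψ h => LinearMap.ext fun a => Subtype.ext (hx.left (by
    show x * (φ a : P) = x * (ψ a : P)
    rw [key, key]
    exact Finset.sum_congr rfl fun j _ =>
      congrArg (fun z => (a.1 j : P) * z) (congrFun (congrArg Subtype.val h) j)))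
  have hsurj : Function.Surjective ev := by
    intro h
    choose y hy e using fun a : ↥(relR A g) => h.2 a.1 a.2
    refine ⟨{ toFun := fun a => ⟨y a, hy a⟩
              map_add' := fun a b => Subtype.ext (hx.left ?_)
              map_smul' := fun c a => Subtype.ext (hx.left ?_) }, Subtype.ext (funext fun j => hx.left ?_)⟩
    · show x * y (a + b) = x * (y a + y b)
      rw [mul_add, ← e, ← e, ← e, ← Finset.sum_add_distrib]
      exact Finset.sum_congr rfl fun j _ => add_mul _ _ _
    · show x * y (c • a) = x * ((c : P) * y a)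
      rw [mul_left_comm x, ← e, ← e, Finset.mul_sum]
      exact Finset.sum_congr rfl fun j _ => mul_assoc _ _ _
    · show x * y (E j) = x * h.1 j
      rw [← e, Finset.sum_eq_single j (fun l _ hl => by simp [E, Pi.single_eq_of_ne hl]) (by simp)]
      simp [E]
  exact ⟨LinearEquiv.ofBijective ev ⟨hinj, hsurj⟩, key⟩

theorem mem_range_lcomp_iff {r : ℕ} (g : Fin r → P) (x : P) (hx : IsRegular x) (hxA : x ∈ A)
    (hxg : ∀ j, x * g j ∈ A) (N : Submodule ↥A P) (i : ↥(relR A g) →ₗ[↥A] (Fin (r + 1) → ↥A))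
    (hi0 : ∀ a, ((i a) 0 : P) = -∑ j : Fin r, (a.1 j : P) * g j)
    (his : ∀ a (j : Fin r), (i a) j.succ = a.1 j)
    (eC : (↥(relR A g) →ₗ[↥A] ↥N) ≃ₗ[↥A] ↥(condC g x N))
    (heC : ∀ φ a, x * (φ a : P) = ∑ j, (a.1 j : P) * (eC φ).1 j) (c : ↥(condC g x N)) :
    c ∈ (LinearMap.range (LinearMap.lcomp ↥A ↥N i)).map eC.toLinearMap ↔
      ∃ v : Fin (r + 1) → P, (∀ l, v l ∈ N) ∧ ∀ j : Fin r, c.1 j = x * (v j.succ - g j * v 0) := by
  classical
  have hsum : ∀ (v : Fin (r + 1) → P) (a : ↥(relR A g)),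
      ∑ j, (a.1 j : P) * (x * (v j.succ - g j * v 0)) = x * ∑ l, ((i a) l : P) * v l := by
    intro v a
    rw [Fin.sum_univ_succ, hi0]
    simp only [his, mul_add, Finset.mul_sum, neg_mul, mul_neg, Finset.sum_mul, ← Finset.sum_neg_distrib,
      ← Finset.sum_add_distrib]
    exact Finset.sum_congr rfl fun j _ => by ring
  constructor
  · rintro ⟨_, ⟨ψ, rfl⟩, rfl⟩
    refine ⟨fun l => (ψ (Pi.single l 1) : P), fun l => (ψ _).2, fun j => ?_⟩
    have hmem : (Pi.single j (⟨x, hxA⟩ : ↥A) : Fin r → ↥A) ∈ relR A g := by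
      show ∑ l, ((Pi.single j (⟨x, hxA⟩ : ↥A) : Fin r → ↥A) l : P) * g l ∈ A
      rw [Finset.sum_eq_single j (fun l _ hl => by simp [Pi.single_eq_of_ne hl]) (by simp), Pi.single_eq_same]
      exact hxg j
    have h1 := heC (LinearMap.lcomp ↥A ↥N i ψ) ⟨_, hmem⟩
    have hψ : ∀ v : Fin (r + 1) → ↥A, (ψ v : P) = ∑ l, (v l : P) * (ψ (Pi.single l 1) : P) := by
      intro v
      conv_lhs => rw [← Finset.univ_sum_single v, map_sum, AddSubmonoidClass.coe_finsetSum]
      refine Finset.sum_congr rfl fun l _ => ?_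
      rw [show (Pi.single l (v l) : Fin (r + 1) → ↥A) = (v l) • Pi.single l (1 : ↥A) by
        rw [← Pi.single_smul, smul_eq_mul, mul_one], map_smul]
      rfl
    change x * (ψ (i ⟨_, hmem⟩) : P) = _ at h1
    rw [hψ, ← hsum] at h1
    have hs : ∀ F : Fin r → P, ∑ l, ((Pi.single j (⟨x, hxA⟩ : ↥A) : Fin r → ↥A) l : P) * F l = x * F j := by
      intro F
      rw [Finset.sum_eq_single j (fun l _ hl => by simp [Pi.single_eq_of_ne hl]) (by simp), Pi.single_eq_same]
    rw [hs, hs] at h1
    exact hx.left h1.symm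
  · intro hc
    obtain ⟨v, hv, hvc⟩ := hc
    let ψ : (Fin (r + 1) → ↥A) →ₗ[↥A] ↥N :=
      (Fintype.linearCombination ↥A v).codRestrict N fun a => by
        rw [Fintype.linearCombination_apply]
        exact N.sum_mem fun l _ => N.smul_mem (a l) (hv l)
    refine ⟨_, ⟨ψ, rfl⟩, eC.symm.injective ?_⟩
    refine (eC.symm_apply_apply _).trans (LinearMap.ext fun a => Subtype.ext (hx.left ?_))
    show x * (Fintype.linearCombination ↥A v) (i a) = x * ((eC.symm c) a : P)
    rw [heC, eC.apply_symm_apply, Fintype.linearCombination_apply]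
    refine Eq.trans ?_ ((hsum v a).symm.trans (Finset.sum_congr rfl fun j _ => by rw [hvc j]))
    rfl

/-- The length of `Ext¹(⟨1, g⟩, N)`. -/
theorem length_ext (hloc : ∀ a : ↥A, ∃ c : k, a - algebraMap k ↥A c ∈ Ideal.jacobson (⊥ : Ideal ↥A))
    {r : ℕ} (g : Fin r → P) (x : P) (hx : IsRegular x) (hxA : x ∈ A) (hxg : ∀ j, x * g j ∈ A)
    (N : Submodule ↥A P) (T : Type u) [AddCommGroup T] [Module k T] [Module.Finite k T]
    (Φ : (Fin r → P) →ₗ[k] T) (hsurj : ∀ t, ∃ h ∈ condC g x N, Φ h = t)
    (hker : ∀ h ∈ condC g x N, Φ h = 0 ↔ ∃ v : Fin (r + 1) → P, (∀ l, v l ∈ N) ∧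
      ∀ j : Fin r, h j = x * (v j.succ - g j * v 0)) :
    Module.length ↥A (Abelian.Ext (ModuleCat.of ↥A ↥(Submodule.span ↥A
      (Set.range (Fin.cases 1 g : Fin (r + 1) → P)))) (ModuleCat.of ↥A ↥N) 1) = Module.finrank k T := by
  classical
  obtain ⟨i, p, hi, hp, hip, hi0, his⟩ := exists_presentation A g
  obtain ⟨eC, heC⟩ := exists_hom_equiv g x hx hxA hxg N
  generalize Submodule.span ↥A (Set.range (Fin.cases 1 g : Fin (r + 1) → P)) = M' at p hp hip ⊢
  refine (length_ext_eq_sub (relR A g) M' N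
    (condC g x N) i p hi hp hip eC).trans ?_
  refine length_quot_of_ker (k := k) hloc ↥(condC g x N) _ T
    (Φ.comp ((condC g x N).subtype.restrictScalars k)) (fun t => let ⟨w, hw, hwt⟩ := hsurj t; ⟨⟨w, hw⟩, hwt⟩)
    (Submodule.ext fun c =>
      (mem_range_lcomp_iff g x hx hxA hxg N i hi0 his eC heC c).trans (hker c.1 c.2).symm)

end Ext

end Groth.Agent.TFSemigroup.Monomial
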